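import Groth.Agent.H17.PrinOmega
import Groth.Agent.H24Def.GlobalFibre
import Groth.Prelude.Def_Coh

/-!
# Derivations on affine opens of a scheme over a ring
-/

set_option autoImplicit false
set_option linter.style.haveILetI false

universe u

open CategoryTheory CategoryTheory.Limits AlgebraicGeometry Opposite TopologicalSpace

namespace Groth.Agent.H24DefAut

open H17.PrinOmega

variable {C : Type u} [CommRing C] {X : Scheme.{u}} (x : X ⟶ Spec (CommRingCat.of C))

/-- A natural family of `C`-derivations of the rings of sections over affine opens. -/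
structure IsDerFam (D : ∀ W : X.affineOpens, Γ(X, W.1) →+ Γ(X, W.1)) : Prop where
  leibniz : ∀ W a b, D W (a * b) = a * D W b + b * D W a
  scalar : ∀ W c, D W (H24Def.scalar x W.1 c) = 0
  natural : ∀ (W V : X.affineOpens) (h : V.1 ≤ W.1) (a : Γ(X, W.1)),
    D V (X.presheaf.map (homOfLE h).op a) = X.presheaf.map (homOfLE h).op (D W a)

theorem appLE_top_eq_scalar (U : X.Opens) (e : U ≤ x ⁻¹ᵁ ⊤) (c : Γ(Spec (CommRingCat.of C), ⊤)) :
    x.appLE ⊤ U e c = H24Def.scalar x U ((Scheme.ΓSpecIso (CommRingCat.of C)).hom c) := by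
  show _ = ((Scheme.ΓSpecIso (CommRingCat.of C)).hom ≫ (Scheme.ΓSpecIso (CommRingCat.of C)).inv ≫
    x.appLE ⊤ U le_top) c
  rw [Iso.hom_inv_id_assoc]

variable [QuasiSeparated x]

/-- A natural family of derivations comes from a map out of the differentials. -/
theorem exists_hom_of_derFam {D : ∀ W : X.affineOpens, Γ(X, W.1) →+ Γ(X, W.1)} (hD : IsDerFam x D) :
    ∃ α : Omega.sheaf x ⟶ Coh.structureModule X, ∀ (W : X.affineOpens) (b : Γ(X, W.1)),
      OmegaSh.fnSect X W.1 (α.app W.1 (OmegaSh.dSect x W.1 b)) = D W b := by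
  let F := Coh.structureModule X
  have hmap : ∀ U : X.Opens, Small x U → ∃ L : OmAff.sectMod (Omega.sheaf x) U ⟶ OmAff.sectMod F U,
      ∀ (hU : IsAffineOpen U) (b : Γ(X, U)), OmegaSh.fnSect X U (L (OmegaSh.dSect x U b)) = D ⟨U, hU⟩ b := by
    intro U hU
    have hUa := hU.1
    have := H17.OmegaLocal.isIso_toSect x hUa (isAffineOpen_top (Spec (CommRingCat.of C))) (le_top : U ≤ x ⁻¹ᵁ ⊤)
    let δ : (OmAff.sectMod F U).Derivation (x.appLE ⊤ U le_top) :=
      ModuleCat.Derivation.mk (fun b => OmegaSh.strSect X U (D ⟨U, hUa⟩ b))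
        (fun a b => by rw [map_add, map_add]) (fun a b => hD.leibniz ⟨U, hUa⟩ a b)
        (fun c => by
          show OmegaSh.strSect X U (D ⟨U, hUa⟩ (x.appLE ⊤ U le_top c)) = 0
          rw [appLE_top_eq_scalar, hD.scalar, map_zero])
    refine ⟨inv (OmAff.toSect x ⊤ U le_top) ≫ δ.desc, fun _ b => ?_⟩
    have h1 : inv (OmAff.toSect x ⊤ U le_top) (OmegaSh.dSect x U b) = CommRingCat.KaehlerDifferential.d b := by
      rw [← OmAff.toSect_d x ⊤ U le_top b, ← ConcreteCategory.comp_apply, IsIso.hom_inv_id]
      rfl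
    rw [ConcreteCategory.comp_apply, h1]
    exact congrArg (OmegaSh.fnSect X U) (δ.desc_d b)
  choose L hL using hmap
  obtain ⟨α, hα⟩ := exists_hom_of_basis (Omega.sheaf x) F (Small x) (exists_small x)
    (fun U h => (L U h).hom) (fun U U' h h' e s => by
      letI : Module Γ(X, U) Γ(F, U') := Module.compHom _ (X.presheaf.map (homOfLE e).op).hom
      let A : OmAff.sectMod (Omega.sheaf x) U ⟶ ModuleCat.of Γ(X, U) Γ(F, U') :=
        ModuleCat.ofHom
          { toFun := fun s => (L U' h') ((Omega.sheaf x).presheaf.map (homOfLE e).op s)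
            map_add' := fun a b => by rw [map_add, map_add]
            map_smul' := fun r m => by
              rw [Scheme.Modules.map_smul]
              exact (L U' h').hom.map_smul _ _ }
      let B : OmAff.sectMod (Omega.sheaf x) U ⟶ ModuleCat.of Γ(X, U) Γ(F, U') :=
        ModuleCat.ofHom
          { toFun := fun s => F.presheaf.map (homOfLE e).op (L U h s)
            map_add' := fun a b => by rw [map_add, map_add]
            map_smul' := fun r m => by
              rw [show L U h (r • m) = r • L U h m from (L U h).hom.map_smul r m]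
              exact Scheme.Modules.map_smul F _ r _ }
      refine congr($(linearMap_ext x h A B fun b => ?_) s)
      show L U' h' ((Omega.sheaf x).presheaf.map (homOfLE e).op (OmegaSh.dSect x U b)) =
        F.presheaf.map (homOfLE e).op (L U h (OmegaSh.dSect x U b))
      erw [← OmegaSh.dSect_map]
      have h1 := hL U' h' h'.1 (X.presheaf.map (homOfLE e).op b)
      have h2 := hL U h h.1 b
      have h3 := hD.natural ⟨U, h.1⟩ ⟨U', h'.1⟩ e b
      exact h1.trans (h3.trans (congrArg (fun z => X.presheaf.map (homOfLE e).op z) h2.symm)))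
  refine ⟨α, fun W b => ?_⟩
  have hW : Small x W.1 := ⟨W.2, ⊤, isAffineOpen_top _, le_top⟩
  rw [hα W.1 hW]
  exact hL W.1 hW W.2 b

/-- Without maps from the differentials to the structure sheaf, derivation families vanish. -/
theorem derFam_eq_zero (h0 : Subsingleton (Omega.sheaf x ⟶ Coh.structureModule X))
    {D : ∀ W : X.affineOpens, Γ(X, W.1) →+ Γ(X, W.1)} (hD : IsDerFam x D) (W : X.affineOpens)
    (b : Γ(X, W.1)) : D W b = 0 := by
  obtain ⟨α, hα⟩ := exists_hom_of_derFam x hD
  rw [← hα W b, Subsingleton.elim α 0]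
  exact map_zero _

end Groth.Agent.H24DefAut
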