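import Groth.Agent.H24DefAut.Rigid

/-!
# The automorphism of the trivial first-order deformation attached to a vector field
-/

set_option autoImplicit false
set_option linter.style.haveILetI false

universe u

open CategoryTheory CategoryTheory.Limits AlgebraicGeometry IsLocalRing ArtFun ArtFun.Art Opposite
open TopologicalSpace

namespace Groth.Agent.H24DefAut

section Twist

variable {T X : Scheme.{u}} (q : T ⟶ X) (e : ∀ U : T.Opens, Γ(T, U))
  (hres : ∀ (U V : T.Opens) (h : V ≤ U), T.presheaf.map (homOfLE h).op (e U) = e V)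
  (hsq : ∀ U, e U * e U = 0) (D : ∀ U : X.Opens, Γ(X, U) →+ Γ(X, U))
  (hD : ∀ U a b, D U (a * b) = a * D U b + b * D U a)
  (hDres : ∀ (U V : X.Opens) (h : V ≤ U) (a : Γ(X, U)),
    D V (X.presheaf.map (homOfLE h).op a) = X.presheaf.map (homOfLE h).op (D U a))

include hsq hD in
theorem twist_map_mul (U : X.Opens) (a b : Γ(X, U)) :
    q.app U (a * b) + e _ * q.app U (D U (a * b)) =
      (q.app U a + e _ * q.app U (D U a)) * (q.app U b + e _ * q.app U (D U b)) := by
  rw [hD, map_mul, map_add, map_mul, map_mul, mul_add, add_mul, mul_add, mul_add,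
    mul_mul_mul_comm (e _) _ (e _), hsq, zero_mul]
  ring

/-- `a ↦ q^* a + e q^* (D a)`. -/
noncomputable def twistRingHom (U : X.Opens) : Γ(X, U) →+* Γ(T, q ⁻¹ᵁ U) :=
  RingHom.mk' { toFun := fun a => q.app U a + e _ * q.app U (D U a)
                map_one' := by
                  have h1 := hD U 1 1
                  rw [mul_one, one_mul, left_eq_add] at h1
                  rw [h1, map_zero, mul_zero, add_zero, map_one]
                map_mul' := twist_map_mul q e hsq D hD U }
    fun a b => by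
      show q.app U (a + b) + e _ * q.app U (D U (a + b)) =
        (q.app U a + e _ * q.app U (D U a)) + (q.app U b + e _ * q.app U (D U b))
      rw [map_add, map_add, map_add]; ring

include hres hDres in
theorem twist_naturality (U V : X.Opens) (h : V ≤ U) (a : Γ(X, U)) :
    twistRingHom q e hsq D hD V (X.presheaf.map (homOfLE h).op a) =
      T.presheaf.map (homOfLE (q.preimage_mono h)).op (twistRingHom q e hsq D hD U a) := by
  show q.app V (X.presheaf.map (homOfLE h).op a) + _ * q.app V (D V _) =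
    T.presheaf.map _ (q.app U a + _ * q.app U (D U a))
  have hn : ∀ b : Γ(X, U), q.app V (X.presheaf.map (homOfLE h).op b) =
      T.presheaf.map (homOfLE (q.preimage_mono h)).op (q.app U b) := fun b =>
    ConcreteCategory.congr_hom (q.naturality (homOfLE h).op) b
  rw [hDres, hn, hn, map_add, map_mul, hres]

/-- The structure map of the twisted morphism. -/
noncomputable def twistC : PresheafedSpace.Hom T.toPresheafedSpace X.toPresheafedSpace where
  base := q.base
  c :=
    { app := fun U => CommRingCat.ofHom (twistRingHom q e hsq D hD U.unop)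
      naturality := fun U V i => by
        ext a
        exact twist_naturality q e hres hsq D hD hDres U.unop V.unop i.unop.le a }

theorem twistC_stalk (p : T) : IsLocalHom (PresheafedSpace.Hom.stalkMap (twistC q e hres hsq D hD hDres) p).hom := by
  refine ⟨fun z hz => ?_⟩
  obtain ⟨U, hU, a, rfl⟩ := X.presheaf.exists_germ_eq z
  have h1 : PresheafedSpace.Hom.stalkMap (twistC q e hres hsq D hD hDres) p (X.presheaf.germ U (q p) hU a) =
      T.presheaf.germ (q ⁻¹ᵁ U) p hU (q.app U a + e _ * q.app U (D U a)) :=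
    PresheafedSpace.stalkMap_germ_apply (twistC q e hres hsq D hD hDres) U p hU a
  have h2 : q.stalkMap p (X.presheaf.germ U (q p) hU a) = T.presheaf.germ (q ⁻¹ᵁ U) p hU (q.app U a) :=
    Scheme.Hom.germ_stalkMap_apply q U p hU a
  change IsUnit (PresheafedSpace.Hom.stalkMap (twistC q e hres hsq D hD hDres) p (X.presheaf.germ U (q p) hU a)) at hz
  rw [h1, map_add, map_mul] at hz
  have hnil : IsNilpotent (T.presheaf.germ (q ⁻¹ᵁ U) p hU (e _) * T.presheaf.germ (q ⁻¹ᵁ U) p hU (q.app U (D U a))) :=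
    ⟨2, by
      rw [mul_pow, pow_two, ← map_mul, hsq, map_zero, zero_mul]⟩
  have h3 := hnil.neg.isUnit_add_left_of_commute hz (Commute.all _ _)
  rw [add_neg_cancel_right, ← h2] at h3
  exact (inferInstance : IsLocalHom (q.stalkMap p).hom).map_nonunit _ h3

/-- The morphism with the same map of spaces as `q` and `a ↦ q^* a + e q^* (D a)` on functions. -/
noncomputable def twist : T ⟶ X :=
  ⟨⟨twistC q e hres hsq D hD hDres, twistC_stalk q e hres hsq D hD hDres⟩⟩

theorem twist_app (U : X.Opens) (a : Γ(X, U)) :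
    (twist q e hres hsq D hD hDres).app U a = q.app U a + e _ * q.app U (D U a) := rfl

theorem comp_twist {S : Scheme.{u}} (i : S ⟶ T) (hi : ∀ U, i.app U (e U) = 0) :
    i ≫ twist q e hres hsq D hD hDres = i ≫ q := by
  refine Scheme.Hom.ext rfl fun U => ?_
  ext a
  show S.presheaf.map (eqToHom _).op (i.app (q ⁻¹ᵁ U) (q.app U a + e _ * q.app U (D U a))) = i.app (q ⁻¹ᵁ U) (q.app U a)
  rw [map_add, map_mul, hi, zero_mul, add_zero, eqToHom_refl, op_id]
  exact congr($(S.presheaf.map_id _) _)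

theorem twist_comp {S : Scheme.{u}} [IsAffine S] (g : X ⟶ S) (hg : ∀ c, D (g ⁻¹ᵁ ⊤) (g.app ⊤ c) = 0) :
    twist q e hres hsq D hD hDres ≫ g = q ≫ g := by
  refine ext_of_isAffine ?_
  ext c
  show q.app _ (g.app ⊤ c) + _ * q.app _ (D _ (g.app ⊤ c)) = q.app _ (g.app ⊤ c)
  rw [hg, map_zero, mul_zero, add_zero]

theorem mul_app_eq_zero_of_twist_eq (h : twist q e hres hsq D hD hDres = q) (U : X.Opens) (a : Γ(X, U)) :
    e _ * q.app U (D U a) = 0 := by
  have h1 : (twist q e hres hsq D hD hDres).appLE U (q ⁻¹ᵁ U) le_rfl a = q.appLE U (q ⁻¹ᵁ U) le_rfl a := by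
    simp only [h]
  rw [← Scheme.Hom.app_eq_appLE] at h1
  have h2 : (twist q e hres hsq D hD hDres).app U a =
      (twist q e hres hsq D hD hDres).appLE U (q ⁻¹ᵁ U) le_rfl a := by
    rw [Scheme.Hom.app_eq_appLE]; rfl
  exact add_eq_left.mp ((twist_app q e hres hsq D hD hDres U a).symm.trans (h2.trans h1))

end Twist

variable {k : Type u} [Field k] {X : Scheme.{u}} (x : X ⟶ specPt k) [QuasiSeparated x]

/-- The derivation attached to a map out of the differentials. -/
noncomputable def derOf (α : Omega.sheaf x ⟶ Coh.structureModule X) (U : X.Opens) : Γ(X, U) →+ Γ(X, U) :=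
  AddMonoidHom.mk' (fun a => OmegaSh.fnSect X U (α.app U (OmegaSh.dSect x U a))) fun a b => by
    show _ = OmegaSh.fnSect X U _ + OmegaSh.fnSect X U _
    rw [OmegaSh.dSect_add]
    erw [map_add]
    rfl

theorem derOf_mul (α : Omega.sheaf x ⟶ Coh.structureModule X) (U : X.Opens) (a b : Γ(X, U)) :
    derOf x α U (a * b) = a * derOf x α U b + b * derOf x α U a := by
  show α.app U (OmegaSh.dSect x U (a * b)) = _
  rw [OmegaSh.dSect_mul]
  erw [map_add, Scheme.Modules.Hom.app_smul, Scheme.Modules.Hom.app_smul]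
  rfl

theorem derOf_res (α : Omega.sheaf x ⟶ Coh.structureModule X) (U V : X.Opens) (h : V ≤ U) (a : Γ(X, U)) :
    derOf x α V (X.presheaf.map (homOfLE h).op a) = X.presheaf.map (homOfLE h).op (derOf x α U a) := by
  show α.app V (OmegaSh.dSect x V (X.presheaf.map (homOfLE h).op a)) = _
  rw [OmegaSh.dSect_map]
  exact H17.PrinOmega.app_res α h _

theorem derOf_app (α : Omega.sheaf x ⟶ Coh.structureModule X) (c : Γ(specPt k, ⊤)) :
    derOf x α (x ⁻¹ᵁ ⊤) (x.app ⊤ c) = 0 := by
  show α.app _ (OmegaSh.dSect x _ (x.app ⊤ c)) = _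
  rw [OmegaSh.dSect_app]
  exact map_zero _

theorem eq_zero_of_derOf_affine (α : Omega.sheaf x ⟶ Coh.structureModule X)
    (h : ∀ U : X.affineOpens, ∀ a, derOf x α U.1 a = 0) : α = 0 := by
  refine H17.PrinOmega.omega_ext x _ α 0 fun U s => H17.PrinFactor.germ_ext fun p hp => ?_
  obtain ⟨U', hU', hpU', e⟩ := H17.PrinOmega.exists_small x U p hp
  rw [← TopCat.Presheaf.germ_res_apply _ (homOfLE e) p hpU' (α.app U _),
    ← TopCat.Presheaf.germ_res_apply _ (homOfLE e) p hpU' ((0 : Omega.sheaf x ⟶ _).app U _),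
    ← H17.PrinOmega.app_res, ← H17.PrinOmega.app_res]
  erw [← OmegaSh.dSect_map]
  exact congrArg _ ((h ⟨U', hU'.1⟩ _).trans (by rfl))

theorem mul_eps_eq_zero_iff (c : DualNumber k) :
    c * DualNumber.eps = 0 ↔ TrivSqZeroExt.fst c = 0 := by
  refine ⟨fun h => ?_, fun h => TrivSqZeroExt.ext ?_ ?_⟩
  · simpa using congrArg TrivSqZeroExt.snd h
  · simp
  · simpa using h

theorem exists_endo_ne_id (α : Omega.sheaf x ⟶ Coh.structureModule X) (hα : α ≠ 0) [hx : Flat x] :
    ∃ φ : (DefSch.trivial X x hx (dual k k)).total ⟶ (DefSch.trivial X x hx (dual k k)).total,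
      φ ≫ (DefSch.trivial X x hx (dual k k)).f = (DefSch.trivial X x hx (dual k k)).f ∧
      (DefSch.trivial X x hx (dual k k)).i ≫ φ = (DefSch.trivial X x hx (dual k k)).i ∧
      φ ≠ 𝟙 _ := by
  set ξ := DefSch.trivial X x hx (dual k k) with hξ
  let ε : (dual k k).carrier := (DualNumber.eps : DualNumber k)
  let q : ξ.total ⟶ X := pullback.fst x (specMap (ofBase (dual k k)))
  have hiq : ξ.i ≫ q = 𝟙 X := DefSch.baseChange_i_fst _ _
  let e : ∀ U : ξ.total.Opens, Γ(ξ.total, U) := fun U => H24Def.scalar ξ.f U ε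
  have hres : ∀ (U V : ξ.total.Opens) (h : V ≤ U), ξ.total.presheaf.map (homOfLE h).op (e U) = e V :=
    fun U V h => H24Def.map_scalar ξ.f h ε
  have hεε : ε * ε = 0 := DualNumber.eps_mul_eps
  have hsq : ∀ U, e U * e U = 0 := fun U => by
    simp only [e]; rw [← map_mul, hεε, map_zero]
  let φ' := twist q e hres hsq (derOf x α) (derOf_mul x α) (derOf_res x α)
  have hie : ∀ U, ξ.i.app U (e U) = 0 := fun U => by
    show ξ.i.app U (H24Def.scalar ξ.f U ε) = 0
    rw [Scheme.Hom.app_eq_appLE,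
      H28Def.appLE_scalar (dual k k).res.toRingHom ξ.i x ξ.f ξ.isPullback.w]
    exact map_zero _
  have hcomp : φ' ≫ x = ξ.f ≫ specMap (ofBase (dual k k)) :=
    (twist_comp q e hres hsq _ _ _ x (derOf_app x α)).trans pullback.condition
  let φ : ξ.total ⟶ ξ.total := pullback.lift φ' ξ.f hcomp
  have hφi : ξ.i ≫ φ = ξ.i := by
    refine pullback.hom_ext ?_ ?_
    · show (ξ.i ≫ φ) ≫ q = ξ.i ≫ q
      rw [Category.assoc]
      refine (congrArg (ξ.i ≫ ·) (pullback.lift_fst _ _ _)).trans ?_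
      exact comp_twist q e hres hsq _ _ _ ξ.i hie
    · show (ξ.i ≫ φ) ≫ ξ.f = ξ.i ≫ ξ.f
      rw [Category.assoc]
      exact congrArg (ξ.i ≫ ·) (pullback.lift_snd _ _ _)
  refine ⟨φ, pullback.lift_snd _ _ _, hφi, fun hid => hα (eq_zero_of_derOf_affine x α fun U a => ?_)⟩
  have hq : φ' = q := by
    have h := congrArg (· ≫ q) hid
    exact ((pullback.lift_fst _ _ _).symm.trans h).trans (Category.id_comp _)
  have h1 := mul_app_eq_zero_of_twist_eq q e hres hsq _ _ _ hq U.1 a
  haveI : IsAffineHom q := MorphismProperty.pullback_fst (P := @IsAffineHom) _ _ inferInstance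
  have hqU : IsAffineOpen (q ⁻¹ᵁ U.1) := U.2.preimage q
  have hcolon : ∀ c, c * ε ∈ (⊥ : Ideal (dual k k)) ↔ c ∈ maximalIdeal (dual k k) := fun c => by
    rw [Ideal.mem_bot, mem_maximalIdeal_iff]
    exact mul_eps_eq_zero_iff (c : DualNumber k)
  have h2 : q.app U.1 (derOf x α U.1 a) ∈ (maximalIdeal (dual k k)).map (H24Def.scalar ξ.f (q ⁻¹ᵁ U.1)) := by
    letI := (H24Def.scalar ξ.f (q ⁻¹ᵁ U.1)).toAlgebra
    haveI : Module.Flat (dual k k) Γ(ξ.total, q ⁻¹ᵁ U.1) := H24Def.flat_scalar ξ.f hqU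
    refine H24Def.mem_map_of_mul_mem_map hcolon ?_
    rw [Ideal.map_bot, Ideal.mem_bot]
    exact h1
  have hle : ξ.i ⁻¹ᵁ (q ⁻¹ᵁ U.1) = U.1 := by
    rw [← Scheme.Hom.comp_preimage, hiq]; rfl
  have h3 := (appLE_i_spec ξ hqU hle).2 _ |>.2 h2
  rw [Scheme.Hom.app_eq_appLE] at h3
  change (q.appLE U.1 _ _ ≫ ξ.i.appLE _ U.1 _) (derOf x α U.1 a) = 0 at h3
  rw [Scheme.Hom.appLE_comp_appLE] at h3
  simp only [hiq] at h3
  change X.presheaf.map (𝟙 _) (derOf x α U.1 a) = 0 at h3
  rw [X.presheaf.map_id] at h3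
  exact h3

end Groth.Agent.H24DefAut
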