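import Groth.Agent.H24DefAut.DerFam
import Groth.Agent.H28Def.DefHom

/-!
# Endomorphisms of deformations of a scheme without vector fields
-/

set_option autoImplicit false
set_option linter.style.haveILetI false

universe u

open CategoryTheory CategoryTheory.Limits AlgebraicGeometry IsLocalRing ArtFun ArtFun.Art Opposite
open TopologicalSpace

namespace Groth.Agent.H24DefAut

variable {Λ k : Type u} [CommRing Λ] [Field k] [Algebra Λ k] {X : Scheme.{u}} {x : X ⟶ specPt k}
variable {A : Art Λ k}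

theorem exists_affine_preimage_eq (ξ : DefSch X x A) (W : X.affineOpens) :
    ∃ U : ξ.total.affineOpens, ξ.i ⁻¹ᵁ U.1 = W.1 := by
  obtain ⟨hci, hsur⟩ := H28Def.isClosedImmersion_i ξ
  haveI := hci
  have hh : IsHomeomorph ξ.i :=
    isHomeomorph_iff_isEmbedding_surjective.2 ⟨ξ.i.isClosedEmbedding.isEmbedding, hsur⟩
  let U : ξ.total.Opens := ⟨ξ.i '' (W.1 : Set X), hh.isOpenMap _ W.1.2⟩
  have hU : ξ.i ⁻¹ᵁ U = W.1 := Opens.ext (Set.preimage_image_eq _ hh.injective)
  refine ⟨⟨U, ?_⟩, hU⟩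
  haveI : IsAffine (ξ.i ⁻¹ᵁ U).toScheme := hU.symm ▸ W.2
  haveI : IsClosedImmersion (ξ.i ∣_ U) :=
    IsZariskiLocalAtTarget.restrict (P := @IsClosedImmersion) inferInstance _
  exact H7Lim.isAffine_of_surjective_closedImmersion (ξ.i ∣_ U) fun z => by
    obtain ⟨w, hw⟩ := hsur z.1
    refine ⟨⟨w, show ξ.i w ∈ U by rw [hw]; exact z.2⟩, Subtype.ext ?_⟩
    rw [morphismRestrict_base]
    exact hw

theorem le_of_preimage_le (ξ : DefSch X x A) {U U' : ξ.total.Opens} (h : ξ.i ⁻¹ᵁ U ≤ ξ.i ⁻¹ᵁ U') :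
    U ≤ U' := fun p hp => by
  obtain ⟨q, rfl⟩ := (H28Def.isClosedImmersion_i ξ).2 p
  exact h hp

/-- Sections over the closed fibre, indexed by an affine open upstairs. -/
theorem appLE_i_spec (ξ : DefSch X x A) {U : ξ.total.Opens} (hU : IsAffineOpen U) {W : X.Opens}
    (e : ξ.i ⁻¹ᵁ U = W) :
    Function.Surjective (ξ.i.appLE U W e.ge) ∧
      ∀ r, ξ.i.appLE U W e.ge r = 0 ↔ r ∈ (maximalIdeal A).map (H24Def.scalar ξ.f U) := by
  subst e
  haveI := (H28Def.isClosedImmersion_i ξ).1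
  rw [← Scheme.Hom.app_eq_appLE]
  exact ⟨ξ.i.app_surjective U hU, H24Def.app_eq_zero_iff ξ.i _ (H28Def.isPullback_quot ξ) hU⟩

/-- An element outside `J` killed by the maximal ideal modulo `J`. -/
theorem exists_colon_eq {C : Type u} [CommRing C] [IsLocalRing C] [IsArtinianRing C] {J : Ideal C}
    (hJ : J ≠ ⊤) : ∃ t, t ∉ J ∧ ∀ a, a * t ∈ J ↔ a ∈ maximalIdeal C := by
  obtain ⟨n, hn⟩ := (isArtinianRing_iff_isNilpotent_maximalIdeal C).mp inferInstance
  obtain ⟨t, htJ, hmt⟩ : ∃ t ∉ J, ∀ a ∈ maximalIdeal C, a * t ∈ J := by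
    classical
    have hex : ∃ n, maximalIdeal C ^ n ≤ J := ⟨n, by rw [hn]; exact bot_le⟩
    have hspec := Nat.find_spec hex
    rcases hfind : Nat.find hex with _ | m
    · rw [hfind, pow_zero, Ideal.one_eq_top] at hspec
      exact absurd (top_le_iff.mp hspec) hJ
    · rw [hfind] at hspec
      obtain ⟨t, ht, htJ⟩ := SetLike.not_le_iff_exists.mp (Nat.find_min hex (m := m) (by omega))
      exact ⟨t, htJ, fun a ha => hspec (by rw [pow_succ']; exact Ideal.mul_mem_mul ha ht)⟩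
  refine ⟨t, htJ, fun a => ⟨fun ha => ?_, hmt a⟩⟩
  by_contra hu
  rw [mem_maximalIdeal, mem_nonunits_iff, not_not] at hu
  obtain ⟨b, rfl⟩ := hu
  exact htJ (by simpa [← mul_assoc] using J.mul_mem_left (↑b⁻¹ : C) ha)

variable (ξ : DefSch X x A) (φ : ξ.total ⟶ ξ.total) (hf : φ ≫ ξ.f = ξ.f) (hi : ξ.i ≫ φ = ξ.i)

include hi in
theorem le_preimage_self (U : ξ.total.Opens) : U ≤ φ ⁻¹ᵁ U := fun p hp => by
  obtain ⟨q, rfl⟩ := (H28Def.isClosedImmersion_i ξ).2 p
  show φ (ξ.i q) ∈ U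
  rwa [← Scheme.Hom.comp_apply, hi]

/-- The action of an endomorphism on sections. -/
noncomputable def endoApp (U : ξ.total.Opens) : Γ(ξ.total, U) →+* Γ(ξ.total, U) :=
  (φ.appLE U U (le_preimage_self ξ φ hi U)).hom

include hf in
theorem endoApp_scalar (U : ξ.total.Opens) (a : A) :
    endoApp ξ φ hi U (H24Def.scalar ξ.f U a) = H24Def.scalar ξ.f U a :=
  H28Def.appLE_scalar (RingHom.id A) φ ξ.f ξ.f
    (by rw [hf, CommRingCat.ofHom_id, Spec.map_id, Category.comp_id]) _ _ _ a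

theorem appLE_endoApp (U : ξ.total.Opens) (W : X.Opens) (e : W ≤ ξ.i ⁻¹ᵁ U) (r : Γ(ξ.total, U)) :
    ξ.i.appLE U W e (endoApp ξ φ hi U r) = ξ.i.appLE U W e r := by
  show (φ.appLE U U _ ≫ ξ.i.appLE U W e) r = _
  rw [Scheme.Hom.appLE_comp_appLE]
  simp only [hi]

theorem endoApp_res {U V : ξ.total.Opens} (h : V ≤ U) (r : Γ(ξ.total, U)) :
    endoApp ξ φ hi V (ξ.total.presheaf.map (homOfLE h).op r) =
      ξ.total.presheaf.map (homOfLE h).op (endoApp ξ φ hi U r) := by
  show (ξ.total.presheaf.map (homOfLE h).op ≫ φ.appLE V V _) r =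
    (φ.appLE U U _ ≫ ξ.total.presheaf.map (homOfLE h).op) r
  rw [Scheme.Hom.map_appLE, Scheme.Hom.appLE_map]

include hf in
theorem sub_mem_of_mem_maximal {J : Ideal A} {t : A} (hmt : ∀ a ∈ maximalIdeal A, a * t ∈ J)
    (U : ξ.total.Opens)
    (hP : ∀ r, endoApp ξ φ hi U r - r ∈ (J ⊔ Ideal.span {t}).map (H24Def.scalar ξ.f U))
    {r : Γ(ξ.total, U)} (hr : r ∈ (maximalIdeal A).map (H24Def.scalar ξ.f U)) :
    endoApp ξ φ hi U r - r ∈ J.map (H24Def.scalar ξ.f U) := by
  refine Submodule.span_induction (p := fun r _ => endoApp ξ φ hi U r - r ∈ J.map (H24Def.scalar ξ.f U))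
    ?_ ?_ ?_ ?_ hr
  · rintro _ ⟨c, -, rfl⟩
    rw [endoApp_scalar ξ φ hf hi, sub_self]
    exact zero_mem _
  · rw [map_zero, sub_zero]; exact zero_mem _
  · intro a b _ _ ha hb
    rw [map_add]
    convert add_mem ha hb using 1
    ring
  · intro s z hz hz'
    have hle : (J ⊔ Ideal.span {t}) * maximalIdeal A ≤ J := by
      rw [Ideal.sup_mul, sup_le_iff]
      refine ⟨Ideal.mul_le_left, Ideal.mul_le.2 fun a ha b hb => ?_⟩
      obtain ⟨c, rfl⟩ := Ideal.mem_span_singleton'.mp ha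
      rw [show c * t * b = c * (b * t) by ring]
      exact J.mul_mem_left c (hmt b hb)
    have h1 : (endoApp ξ φ hi U s - s) * z ∈ J.map (H24Def.scalar ξ.f U) := by
      refine Ideal.map_mono (f := H24Def.scalar ξ.f U) hle ?_
      rw [Ideal.map_mul]
      exact Ideal.mul_mem_mul (hP s) hz
    rw [smul_eq_mul, map_mul]
    convert add_mem (Ideal.mul_mem_left _ (endoApp ξ φ hi U s) hz') h1 using 1
    ring

variable [QuasiSeparated x] (h0 : Subsingleton (Omega.sheaf x ⟶ Coh.structureModule X))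

include hf h0 in
theorem endoApp_sub_mem (J : Ideal A) (U : ξ.total.affineOpens) (r : Γ(ξ.total, U.1)) :
    endoApp ξ φ hi U.1 r - r ∈ J.map (H24Def.scalar ξ.f U.1) := by
  induction J using WellFoundedGT.induction generalizing U r with
  | ind J ih =>
  by_cases hJ : J = ⊤
  · subst hJ; rw [Ideal.map_top]; trivial
  obtain ⟨t, htJ, hcolon⟩ := exists_colon_eq hJ
  have hP := ih (J ⊔ Ideal.span {t}) (Submodule.lt_sup_iff_notMem.mpr htJ)
  have hb : ∀ (U : ξ.total.affineOpens) (r : Γ(ξ.total, U.1)), ∃ b : Γ(ξ.total, U.1),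
      endoApp ξ φ hi U.1 r - r - H24Def.scalar ξ.f U.1 t * b ∈ J.map (H24Def.scalar ξ.f U.1) := by
    intro U r
    have h1 := hP U r
    rw [Ideal.map_sup, Ideal.map_span, Set.image_singleton, Submodule.mem_sup] at h1
    obtain ⟨a, ha, z, hz, he⟩ := h1
    obtain ⟨b, rfl⟩ := Ideal.mem_span_singleton'.mp hz
    exact ⟨b, by rw [← he, mul_comm b, add_sub_cancel_right]; exact ha⟩
  choose b hb using hb
  have hcancel : ∀ (U : ξ.total.affineOpens) (z : Γ(ξ.total, U.1)),
      H24Def.scalar ξ.f U.1 t * z ∈ J.map (H24Def.scalar ξ.f U.1) →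
      z ∈ (maximalIdeal A).map (H24Def.scalar ξ.f U.1) := by
    intro U z hz
    letI := (H24Def.scalar ξ.f U.1).toAlgebra
    haveI : Module.Flat A Γ(ξ.total, U.1) := H24Def.flat_scalar ξ.f U.2
    exact H24Def.mem_map_of_mul_mem_map hcolon hz
  choose up hup using exists_affine_preimage_eq ξ
  let res : ∀ W : X.affineOpens, Γ(ξ.total, (up W).1) → Γ(X, W.1) :=
    fun W => ξ.i.appLE (up W).1 W.1 (hup W).ge
  have hsur := fun W => (appLE_i_spec ξ (up W).2 (hup W)).1
  have hzero := fun W => (appLE_i_spec ξ (up W).2 (hup W)).2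
  have hkey : ∀ (W : X.affineOpens) (r z : Γ(ξ.total, (up W).1)) (s : Γ(ξ.total, (up W).1)),
      res W r = res W s →
      endoApp ξ φ hi _ r - r - H24Def.scalar ξ.f _ t * z ∈ J.map (H24Def.scalar ξ.f (up W).1) →
      res W z = res W (b (up W) s) := by
    intro W r z s hrs hz
    rw [← sub_eq_zero]
    simp only [res, ← map_sub]
    rw [hzero]
    refine hcancel _ _ ?_
    have h2 := sub_mem_of_mem_maximal ξ φ hf hi (fun a ha => (hcolon a).2 ha) (up W).1 (hP (up W))
      ((hzero W (r - s)).1 (by rw [map_sub, sub_eq_zero]; exact hrs))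
    have h3 := sub_mem (sub_mem h2 hz) (neg_mem (hb (up W) s))
    rw [map_sub] at h3
    convert h3 using 1
    ring
  choose sec hsec using hsur
  let D : ∀ W : X.affineOpens, Γ(X, W.1) →+ Γ(X, W.1) := fun W =>
    AddMonoidHom.mk' (fun c => res W (b (up W) (sec W c))) fun c c' => by
      show _ = res W _ + res W _
      simp only [res, ← map_add]
      refine (hkey W (sec W c + sec W c') _ _ ?_ ?_).symm
      · simp only [res, map_add]; rw [hsec W c, hsec W c', hsec W (c + c')]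
      · rw [map_add]
        convert add_mem (hb (up W) (sec W c)) (hb (up W) (sec W c')) using 1
        ring
  have hDspec : ∀ (W : X.affineOpens) (r z : Γ(ξ.total, (up W).1)),
      endoApp ξ φ hi _ r - r - H24Def.scalar ξ.f _ t * z ∈ J.map (H24Def.scalar ξ.f (up W).1) →
      D W (res W r) = res W z := fun W r z hz => (hkey W r z _ (hsec W _).symm hz).symm
  have hder : IsDerFam x D := by
    refine ⟨fun W c c' => ?_, fun W c => ?_, fun W V h c => ?_⟩
    · obtain ⟨r, rfl⟩ := (appLE_i_spec ξ (up W).2 (hup W)).1 c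
      obtain ⟨r', rfl⟩ := (appLE_i_spec ξ (up W).2 (hup W)).1 c'
      have hr := hb (up W) r
      have hr' := hb (up W) r'
      have e1 := hDspec W r _ hr
      have e2 := hDspec W r' _ hr'
      have e3 := hDspec W (r * r') (endoApp ξ φ hi _ r * b (up W) r' + r' * b (up W) r) (by
        rw [map_mul]
        convert add_mem (Ideal.mul_mem_left _ (endoApp ξ φ hi _ r) hr') (Ideal.mul_mem_left _ r' hr) using 1
        ring)
      simp only [res, map_add, map_mul] at e1 e2 e3 ⊢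
      rw [e3, e1, e2, appLE_endoApp ξ φ hi]
    · obtain ⟨a, rfl⟩ := A.res_surjective c
      have e := hDspec W (H24Def.scalar ξ.f _ a) 0 (by
        rw [endoApp_scalar ξ φ hf hi, sub_self, mul_zero, sub_self]; exact zero_mem _)
      simp only [res, map_zero] at e
      rwa [H28Def.appLE_scalar A.res.toRingHom ξ.i x ξ.f ξ.isPullback.w] at e
    · obtain ⟨r, rfl⟩ := (appLE_i_spec ξ (up W).2 (hup W)).1 c
      have hle : (up V).1 ≤ (up W).1 := le_of_preimage_le ξ (by rw [hup V, hup W]; exact h)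
      have hnat : ∀ z : Γ(ξ.total, (up W).1), X.presheaf.map (homOfLE h).op (res W z) =
          res V (ξ.total.presheaf.map (homOfLE hle).op z) := fun z => by
        show (ξ.i.appLE _ _ _ ≫ X.presheaf.map (homOfLE h).op) z =
          (ξ.total.presheaf.map (homOfLE hle).op ≫ ξ.i.appLE _ _ _) z
        rw [Scheme.Hom.map_appLE, Scheme.Hom.appLE_map]
      have h4 := H24Def.map_scalar_ideal ξ.f hle J (hb (up W) r)
      rw [map_sub, map_sub, map_mul, H24Def.map_scalar, ← endoApp_res ξ φ hi hle] at h4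
      show D V (X.presheaf.map (homOfLE h).op (res W r)) = X.presheaf.map (homOfLE h).op (D W (res W r))
      rw [hnat, hDspec W r _ (hb (up W) r), hnat]
      exact hDspec V _ _ h4
  have hU : ∃ W : X.affineOpens, up W = U := by
    haveI := (H28Def.isClosedImmersion_i ξ).1
    refine ⟨⟨ξ.i ⁻¹ᵁ U.1, U.2.preimage ξ.i⟩, ?_⟩
    have e := hup ⟨ξ.i ⁻¹ᵁ U.1, U.2.preimage ξ.i⟩
    exact Subtype.ext (le_antisymm (le_of_preimage_le ξ e.le) (le_of_preimage_le ξ e.ge))
  obtain ⟨W, rfl⟩ := hU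
  have h5 := derFam_eq_zero x h0 hder W (res W r)
  rw [hDspec W r _ (hb (up W) r)] at h5
  have h6 := (hzero W (b (up W) r)).1 h5
  have h7 : H24Def.scalar ξ.f (up W).1 t * b (up W) r ∈ J.map (H24Def.scalar ξ.f (up W).1) := by
    have hle : Ideal.span {t} * maximalIdeal A ≤ J := Ideal.mul_le.2 fun a ha m hm => by
      obtain ⟨e, rfl⟩ := Ideal.mem_span_singleton'.mp ha
      rw [show e * t * m = e * (m * t) by ring]
      exact J.mul_mem_left e ((hcolon m).2 hm)
    refine Ideal.map_mono (f := H24Def.scalar ξ.f (up W).1) hle ?_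
    rw [Ideal.map_mul, Ideal.map_span, Set.image_singleton]
    exact Ideal.mul_mem_mul (Ideal.mem_span_singleton_self _) h6
  have := add_mem (hb (up W) r) h7
  rwa [sub_add_cancel] at this

include hf hi h0 in
/-- Endomorphisms of a deformation of a scheme without vector fields are trivial. -/
theorem endo_eq_id : φ = 𝟙 ξ.total := by
  refine Scheme.Cover.hom_ext
    (ξ.total.openCoverOfIsOpenCover (fun U : ξ.total.affineOpens => U.1) (iSup_affineOpens_eq_top _)) _ _
    fun U => ?_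
  have hid : φ.appLE U.1 U.1 (le_preimage_self ξ φ hi U.1) = 𝟙 _ := by
    ext r
    have h := endoApp_sub_mem ξ φ hf hi h0 ⊥ U r
    rw [Ideal.map_bot, Ideal.mem_bot, sub_eq_zero] at h
    exact h
  show U.1.ι ≫ φ = U.1.ι ≫ 𝟙 _
  rw [Category.comp_id, ← cancel_epi U.2.isoSpec.inv]
  show U.2.fromSpec ≫ φ = U.2.fromSpec
  rw [← IsAffineOpen.SpecMap_appLE_fromSpec φ U.2 U.2 (le_preimage_self ξ φ hi U.1), hid]
  simp

end Groth.Agent.H24DefAut
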